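import Mathlib.Algebra.Homology.ShortComplex.Ab
import Mathlib.Algebra.Homology.ShortComplex.HomologicalComplex
import Mathlib.Algebra.Homology.HomologicalComplexLimits
import Mathlib.Algebra.Category.Grp.Limits
import Mathlib.Order.WellFounded

/-!
# Limits of well-ordered inverse systems of acyclic complexes of abelian groups
-/

universe w

open CategoryTheory Limits Opposite

namespace Groth.Agent.Lib.InvSys.WellOrdered

variable {I : Type w} [LinearOrder I] [WellFoundedLT I]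
  (K : Iᵒᵖ ⥤ CochainComplex AddCommGrpCat.{w} ℤ)

/-- The transition maps. -/
abbrev r {γ β : I} (h : γ ≤ β) (m : ℤ) : (K.obj (op β)).X m →+ (K.obj (op γ)).X m :=
  ((K.map (homOfLE h).op).f m).hom

omit [WellFoundedLT I] in
lemma r_r {δ γ β : I} (h : δ ≤ γ) (h' : γ ≤ β) (m : ℤ) (x : (K.obj (op β)).X m) :
    r K h m (r K h' m x) = r K (h.trans h') m x := by
  change (((K.map (homOfLE h').op).f m) ≫ ((K.map (homOfLE h).op).f m)).hom x = _
  rw [← HomologicalComplex.comp_f, ← Functor.map_comp]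
  rfl

omit [WellFoundedLT I] in
lemma r_d {γ β : I} (h : γ ≤ β) (m m' : ℤ) (x : (K.obj (op β)).X m) :
    r K h m' (((K.obj (op β)).d m m').hom x) = ((K.obj (op γ)).d m m').hom (r K h m x) :=
  (ConcreteCategory.congr_hom ((K.map (homOfLE h).op).comm m m') x).symm

omit [WellFoundedLT I] in
lemma d_d {γ : I} (i j k : ℤ) (x : (K.obj (op γ)).X i) :
    ((K.obj (op γ)).d j k).hom (((K.obj (op γ)).d i j).hom x) = 0 :=
  (ConcreteCategory.congr_hom ((K.obj (op γ)).d_comp_d i j k) x)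

/-- Extendability of primitives at `γ`. -/
def Q (γ : I) : Prop :=
  ∀ (m m' : ℤ), m + 1 = m' → ∀ (x : (K.obj (op γ)).X m') (y : ∀ δ, (K.obj (op δ)).X m),
    ((K.obj (op γ)).d m' (m' + 1)).hom x = 0 →
    (∀ δ ε : I, ε < γ → ∀ h : δ ≤ ε, r K h m (y ε) = y δ) →
    (∀ δ, ∀ h : δ < γ, ((K.obj (op δ)).d m m').hom (y δ) = r K h.le m' x) →
    ∃ z : (K.obj (op γ)).X m, (∀ δ, ∀ h : δ < γ, r K h.le m z = y δ) ∧
      ((K.obj (op γ)).d m m').hom z = x

lemma glue (S : I → Prop) (hS : ∀ δ ε, δ ≤ ε → S ε → S δ) (hQ : ∀ γ, S γ → Q K γ)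
    (m m' : ℤ) (hm : m + 1 = m') (x : ∀ δ, (K.obj (op δ)).X m')
    (hx : ∀ δ, S δ → ((K.obj (op δ)).d m' (m' + 1)).hom (x δ) = 0)
    (hxc : ∀ δ ε, S ε → ∀ h : δ ≤ ε, r K h m' (x ε) = x δ) :
    ∃ y : ∀ δ, (K.obj (op δ)).X m, (∀ δ ε, S ε → ∀ h : δ ≤ ε, r K h m (y ε) = y δ) ∧
      ∀ δ, S δ → ((K.obj (op δ)).d m m').hom (y δ) = x δ := by
  classical
  let P : ∀ γ, (∀ δ, δ < γ → (K.obj (op δ)).X m) → (K.obj (op γ)).X m → Prop :=
    fun γ f z => (∀ δ, ∀ h : δ < γ, r K h.le m z = f δ h) ∧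
      ((K.obj (op γ)).d m m').hom z = x γ
  let y : ∀ δ, (K.obj (op δ)).X m := wellFounded_lt.fix fun γ f =>
    if h : ∃ z, P γ f z then h.choose else 0
  have hy : ∀ γ, y γ = if h : ∃ z, P γ (fun δ _ => y δ) z then h.choose else 0 := fun γ =>
    WellFounded.fix_eq (wellFounded_lt (α := I)) _ γ
  have key : ∀ γ, S γ → P γ (fun δ _ => y δ) (y γ) := by
    intro γ
    induction γ using WellFoundedLT.induction with
    | _ γ ih =>
      intro hγ
      have h : ∃ z, P γ (fun δ _ => y δ) z := by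
        refine hQ γ hγ m m' hm (x γ) y (hx γ hγ) (fun δ ε hε h => ?_) (fun δ h => ?_)
        · rcases h.lt_or_eq with h' | rfl
          · exact (ih ε hε (hS _ _ hε.le hγ)).1 δ h'
          · simp [r, HomologicalComplex.id_f]
        · rw [(ih δ h (hS _ _ h.le hγ)).2, hxc δ γ hγ h.le]
      rw [hy γ, dif_pos h]
      exact h.choose_spec
  refine ⟨y, fun δ ε hε h => ?_, fun δ hδ => (key δ hδ).2⟩
  rcases h.lt_or_eq with h' | rfl
  · exact (key ε hε).1 δ h'
  · simp [r, HomologicalComplex.id_f]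

variable (hac : ∀ (β : I) (n : ℤ), (K.obj (op β)).ExactAt n)
  (hsurj : ∀ (β : I) (n : ℤ) (x : ∀ γ : {γ : I // γ < β}, (K.obj (op γ.1)).X n),
    (∀ (γ γ' : {γ : I // γ < β}) (h : γ.1 ≤ γ'.1), ((K.map (homOfLE h).op).f n).hom (x γ') = x γ) →
    ∃ y : (K.obj (op β)).X n, ∀ γ : {γ : I // γ < β}, ((K.map (homOfLE γ.2.le).op).f n).hom y = x γ)

include hac hsurj

lemma q_all (γ : I) : Q K γ := by
  induction γ using WellFoundedLT.induction with
  | _ γ ih =>
    intro m m' hm x y hx hyc hyd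
    obtain ⟨y', hy'⟩ := hsurj γ m (fun δ => y δ.1) (fun δ ε h => hyc δ.1 ε.1 ε.2 h)
    have hex : ∀ i j, i + 1 = j → ∀ e : (K.obj (op γ)).X j,
        ((K.obj (op γ)).d j (j + 1)).hom e = 0 →
        ∃ z, ((K.obj (op γ)).d i j).hom z = e := by
      intro i j hij e he
      have := (HomologicalComplex.exactAt_iff' (K.obj (op γ)) i j (j + 1)
        (by simp; omega) (by simp)).1 (hac γ j)
      exact (ShortComplex.ab_exact_iff _).1 this e he
    obtain ⟨z, hz⟩ := hex m m' hm (x - ((K.obj (op γ)).d m m').hom y')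
      (by rw [map_sub, hx, d_d, sub_zero])
    obtain ⟨w, hwc, hwd⟩ := glue K (· < γ) (fun δ ε h h' => h.trans_lt h') ih (m - 1) m (by omega)
      (fun δ => if h : δ < γ then r K h.le m z else 0)
      (fun δ hδ => by
        subst hm
        rw [dif_pos hδ, ← r_d, hz, map_sub, r_d, show r K hδ.le m y' = y δ from hy' ⟨δ, hδ⟩,
          hyd δ hδ, sub_self])
      (fun δ ε hε h => by rw [dif_pos hε, dif_pos (h.trans_lt hε), r_r])
    obtain ⟨w', hw'⟩ := hsurj γ (m - 1) (fun δ => w δ.1) (fun δ ε h => hwc δ.1 ε.1 ε.2 h)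
    refine ⟨y' + z - ((K.obj (op γ)).d (m - 1) m).hom w', fun δ hδ => ?_, ?_⟩
    · have h2 := hwd δ hδ
      rw [dif_pos hδ] at h2
      rw [map_sub, map_add, r_d, show r K hδ.le m y' = y δ from hy' ⟨δ, hδ⟩,
        show r K hδ.le (m - 1) w' = w δ from hw' ⟨δ, hδ⟩, h2, add_sub_cancel_right]
    · rw [map_sub, map_add, hz, d_d, sub_zero, add_sub_cancel]

theorem limit_exactAt (n : ℤ) : (limit K).ExactAt n := by
  rw [HomologicalComplex.exactAt_iff' _ (n - 1) n (n + 1) (by simp) (by simp)]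
  rw [ShortComplex.ab_exact_iff]
  intro x hx
  obtain ⟨y, hyc, hyd⟩ := glue K (fun _ => True) (fun _ _ _ _ => trivial)
    (fun γ _ => q_all K hac hsurj γ) (n - 1) n (by omega)
    (fun δ => ((limit.π K (op δ)).f n).hom x)
    (fun δ _ => by
      have := ConcreteCategory.congr_hom ((limit.π K (op δ)).comm n (n + 1)) x
      refine this.trans ?_
      change ((limit.π K (op δ)).f (n + 1)).hom (((limit K).d n (n + 1)).hom x) = 0
      erw [hx, map_zero])
    (fun δ ε _ h => by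
      change ((limit.π K (op ε)).f n ≫ (K.map (homOfLE h).op).f n).hom x = _
      rw [← HomologicalComplex.comp_f, limit.w])
  let hl : ∀ m : ℤ, IsLimit ((forget AddCommGrpCat.{w}).mapCone
      ((HomologicalComplex.eval _ _ m).mapCone (limit.cone K))) := fun m =>
    isLimitOfPreserves _ (isLimitOfPreserves _ (limit.isLimit K))
  let s : ((K ⋙ HomologicalComplex.eval _ _ (n - 1)) ⋙ forget AddCommGrpCat.{w}).sections :=
    ⟨fun j => y j.unop, fun {j k} f => hyc k.unop j.unop trivial (leOfHom f.unop)⟩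
  refine ⟨(Types.isLimitEquivSections (hl (n - 1))).symm s, ?_⟩
  apply Concrete.isLimit_ext _ (isLimitOfPreserves (HomologicalComplex.eval _ _ n) (limit.isLimit K))
  intro j
  have := Types.isLimitEquivSections_symm_apply (hl (n - 1)) s j
  refine (ConcreteCategory.congr_hom ((limit.π K j).comm (n - 1) n) _).symm.trans ?_
  exact (congrArg ((K.obj j).d (n - 1) n).hom this).trans (hyd j.unop trivial)

end Groth.Agent.Lib.InvSys.WellOrdered
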